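import Cfsg.Agent.Lib.PGroup.OmegaCentral
import Mathlib.GroupTheory.SpecificGroups.Cyclic
import Mathlib.GroupTheory.PGroup
import Mathlib.GroupTheory.Nilpotent

/-!
# Tools for `p`-groups of rank two

Subgroups acting trivially on a section, fixed points on sections, and elements of order `p` that
are central modulo a central subgroup.
-/

set_option autoImplicit false
set_option linter.style.haveILetI false

open Subgroup
open scoped commutatorElement

namespace CfsgLib.Coprime.QdRankTwo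

universe u

variable {G : Type u} [Group G]

/-- The elements acting trivially on `B / A`. -/
def trivOn (A B : Subgroup G) [A.Normal] : Subgroup G :=
  (centralizer ((B.map (QuotientGroup.mk' A)) : Set (G ⧸ A))).comap (QuotientGroup.mk' A)

theorem mem_trivOn {A B : Subgroup G} [A.Normal] {g : G} :
    g ∈ trivOn A B ↔ ∀ b ∈ B, ⁅g, b⁆ ∈ A := by
  simp only [trivOn, mem_comap, mem_centralizer_iff_commutator_eq_one, SetLike.mem_coe, mem_map]
  refine ⟨fun h b hb => ?_, ?_⟩
  · have hh := h _ ⟨b, hb, rfl⟩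
    rw [← map_commutatorElement, QuotientGroup.mk'_apply, QuotientGroup.eq_one_iff] at hh
    simpa using inv_mem hh
  · rintro h _ ⟨b, hb, rfl⟩
    rw [← map_commutatorElement, QuotientGroup.mk'_apply, QuotientGroup.eq_one_iff]
    simpa using inv_mem (h b hb)

instance trivOn_normal (A B : Subgroup G) [A.Normal] [B.Normal] : (trivOn A B).Normal := by
  haveI : (B.map (QuotientGroup.mk' A)).Normal :=
    Subgroup.Normal.map inferInstance _ (QuotientGroup.mk'_surjective A)
  unfold trivOn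
  infer_instance

/-- The commutator subgroup centralizes a cyclic normal subgroup. -/
theorem commutator_le_centralizer_cyclic (C : Subgroup G) [C.Normal] [IsCyclic C] :
    _root_.commutator G ≤ centralizer (C : Set G) := by
  let f : G →* MulAut C := MulAut.conjNormal
  have hker : f.ker ≤ centralizer (C : Set G) := by
    intro g hg
    rw [mem_centralizer_iff]
    intro c hc
    have h := congrArg (fun e : MulAut C => ((e ⟨c, hc⟩ : C) : G)) (MonoidHom.mem_ker.1 hg)
    simp only [f, MulAut.conjNormal_apply, MulAut.one_apply] at h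
    calc c * g = g * c * g⁻¹ * g := by rw [h]
      _ = g * c := inv_mul_cancel_right _ _
  refine le_trans ?_ hker
  rw [_root_.commutator_eq_closure, closure_le]
  rintro _ ⟨a, b, rfl⟩
  rw [SetLike.mem_coe, MonoidHom.mem_ker, map_commutatorElement, commutatorElement_eq_one_iff_mul_comm]
  let e := IsCyclic.mulAutMulEquiv C
  apply e.injective
  rw [map_mul, map_mul, mul_comm]

/-- A `p`-element centralizes a normal subgroup of order `p`. -/
theorem mem_centralizer_of_card_prime [Finite G] {p : ℕ} [Fact p.Prime] (C : Subgroup G) [C.Normal]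
    (hC : Nat.card C = p) {g : G} {k : ℕ} (hg : g ^ p ^ k = 1) :
    g ∈ centralizer (C : Set G) := by
  haveI : IsCyclic C := isCyclic_of_prime_card hC
  let f : G →* MulAut C := MulAut.conjNormal
  have h1 : orderOf (f g) ∣ p ^ k := orderOf_dvd_of_pow_eq_one (by rw [← map_pow, hg, map_one])
  have h2 : orderOf (f g) ∣ p - 1 := by
    have := orderOf_dvd_natCard (f g)
    rwa [IsCyclic.card_mulAut, hC, Nat.totient_prime Fact.out] at this
  have hcop : (p ^ k).Coprime (p - 1) := by
    refine Nat.Coprime.pow_left k ((Nat.Prime.coprime_iff_not_dvd Fact.out).2 fun h => ?_)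
    have hp := (Fact.out : p.Prime).two_le
    have := Nat.le_of_dvd (by omega) h
    omega
  have hfg : f g = 1 := orderOf_eq_one_iff.1
    (Nat.eq_one_of_dvd_coprimes hcop h1 h2)
  rw [mem_centralizer_iff]
  intro c hc
  have h := congrArg (fun e : MulAut C => ((e ⟨c, hc⟩ : C) : G)) hfg
  simp only [f, MulAut.conjNormal_apply, MulAut.one_apply] at h
  calc c * g = g * c * g⁻¹ * g := by rw [h]
    _ = g * c := inv_mul_cancel_right _ _

/-- A `p`-group normalizing a `p`-section fixes a nontrivial element of it. -/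
theorem exists_fixed_section [Finite G] {p : ℕ} [Fact p.Prime] (A B : Subgroup G) [A.Normal]
    [B.Normal] (hAB : A < B) (hB : IsPGroup p B) {R : Subgroup G} (hR : IsPGroup p R) :
    ∃ b ∈ B, b ∉ A ∧ ∀ r ∈ R, ⁅r, b⁆ ∈ A := by
  haveI : (B.map (QuotientGroup.mk' A)).Normal :=
    Subgroup.Normal.map inferInstance _ (QuotientGroup.mk'_surjective A)
  let f : R →* MulAut (B.map (QuotientGroup.mk' A)) :=
    MulAut.conjNormal.comp ((QuotientGroup.mk' A).comp R.subtype)
  letI act : MulAction R (B.map (QuotientGroup.mk' A)) := MulAction.compHom _ f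
  have hne : B.map (QuotientGroup.mk' A) ≠ ⊥ := by
    rw [Ne, Subgroup.map_eq_bot_iff, QuotientGroup.ker_mk']
    exact hAB.not_ge
  haveI : Nontrivial (B.map (QuotientGroup.mk' A)) := (nontrivial_iff_ne_bot _).2 hne
  obtain ⟨n, hn, hcard⟩ := (hB.map (QuotientGroup.mk' A)).nontrivial_iff_card.1 inferInstance
  have h1 : (1 : B.map (QuotientGroup.mk' A)) ∈
      MulAction.fixedPoints R (B.map (QuotientGroup.mk' A)) := fun r => map_one (f r)
  obtain ⟨⟨x, hx⟩, hfix, hne1⟩ := hR.exists_fixed_point_of_prime_dvd_card_of_fixed_point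
    (B.map (QuotientGroup.mk' A)) (hcard ▸ dvd_pow_self p hn.ne') h1
  obtain ⟨b, hb, rfl⟩ := mem_map.1 hx
  refine ⟨b, hb, fun hbA => hne1 (Subtype.ext ?_), fun r hr => ?_⟩
  · rw [OneMemClass.coe_one]
    exact ((QuotientGroup.eq_one_iff b).2 hbA).symm
  · have h := congrArg Subtype.val (hfix ⟨r, hr⟩)
    change (MulAut.conjNormal (QuotientGroup.mk' A r) ⟨_, hx⟩ : G ⧸ A) = QuotientGroup.mk' A b at h
    rw [MulAut.conjNormal_apply] at h
    rw [← QuotientGroup.eq_one_iff, ← QuotientGroup.mk'_apply, map_commutatorElement,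
      commutatorElement_def, h, mul_inv_cancel]

/-- An involution trivial on two layers of a `p`-section, `p` odd, is trivial on the section. -/
theorem involution_two_step [Finite G] {p : ℕ} [Fact p.Prime] (hp : p ≠ 2) {A L B : Subgroup G}
    [A.Normal] [L.Normal] (hL : IsPGroup p L) {t : G} (ht : t * t = 1)
    (h1 : t ∈ trivOn L B) (h2 : t ∈ trivOn A L) : t ∈ trivOn A B := by
  rw [mem_trivOn] at h1 h2 ⊢
  intro b hb
  set l := ⁅t, b⁆ with hl
  have hlL : l ∈ L := h1 b hb
  have hti : t⁻¹ = t := inv_eq_of_mul_eq_one_right ht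
  set a := ⁅t, l⁆ with ha
  have haA : a ∈ A := h2 l hlL
  have key : a * (l * l) = 1 := by
    have e : t * l * t⁻¹ = l⁻¹ := by
      rw [hl, commutatorElement_def, hti]
      simp only [mul_inv_rev, inv_inv, hti, mul_assoc]
      rw [← mul_assoc t t, ht, one_mul]
    rw [ha, commutatorElement_def, e]
    group
  have hl2 : l * l ∈ A := by
    have : l * l = a⁻¹ := eq_inv_of_mul_eq_one_right key
    rw [this]; exact inv_mem haA
  obtain ⟨k, hk⟩ := hL ⟨l, hlL⟩
  have hk' : l ^ p ^ k = 1 := by simpa using congrArg Subtype.val hk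
  obtain ⟨m, hm⟩ := ((Fact.out : p.Prime).odd_of_ne_two hp).pow (n := k)
  rw [hm, pow_succ, pow_mul] at hk'
  have : l = ((l ^ 2) ^ m)⁻¹ := eq_inv_of_mul_eq_one_right hk'
  rw [this]
  exact inv_mem (pow_mem (by rwa [pow_two]) m)

/-- The elements `w` of `M` with `w ^ p = 1` and `⁅M, w⁆ ≤ Z` form a subgroup. -/
theorem exists_omega_subgroup [Finite G] {p : ℕ} [Fact p.Prime] (hp : p ≠ 2) {M Z : Subgroup G}
    (hZc : ∀ z ∈ Z, ∀ x ∈ M, Commute z x) (hZp : ∀ z ∈ Z, z ^ p = 1) :
    ∃ S : Subgroup G, ∀ w, w ∈ S ↔ w ∈ M ∧ w ^ p = 1 ∧ ∀ x ∈ M, ⁅x, w⁆ ∈ Z := by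
  have hmul : ∀ a b : G, (a ∈ M ∧ a ^ p = 1 ∧ ∀ x ∈ M, ⁅x, a⁆ ∈ Z) →
      (b ∈ M ∧ b ^ p = 1 ∧ ∀ x ∈ M, ⁅x, b⁆ ∈ Z) →
      (a * b ∈ M ∧ (a * b) ^ p = 1 ∧ ∀ x ∈ M, ⁅x, a * b⁆ ∈ Z) := by
    rintro a b ⟨haM, hap, ha⟩ ⟨hbM, hbp, hb⟩
    refine ⟨mul_mem haM hbM, ?_, fun x hx => ?_⟩
    · have hc := ha b hbM
      have hba : b * a = ⁅b, a⁆ * (a * b) := by rw [commutatorElement_def]; group
      rw [CfsgLib.PGroup.mul_pow_of_commute_commutator hba (hZc _ hc a haM) (hZc _ hc b hbM),
        hap, hbp, one_mul, one_mul]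
      obtain ⟨d, hd⟩ := Nat.Prime.dvd_choose_self (Fact.out : p.Prime) two_ne_zero
        (lt_of_le_of_ne (Fact.out : p.Prime).two_le (Ne.symm hp))
      rw [hd, pow_mul, hZp _ hc, one_pow]
    · have he : ⁅x, a * b⁆ = ⁅x, a⁆ * (a * ⁅x, b⁆ * a⁻¹) := by
        simp only [commutatorElement_def]; group
      rw [he, ← (hZc _ (hb x hx) a haM).eq, mul_inv_cancel_right]
      exact mul_mem (ha x hx) (hb x hx)
  have hone : (1 : G) ∈ M ∧ (1 : G) ^ p = 1 ∧ ∀ x ∈ M, ⁅x, (1 : G)⁆ ∈ Z :=
    ⟨one_mem M, one_pow p, fun x _ => by rw [commutatorElement_one_right]; exact one_mem Z⟩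
  refine ⟨
    { carrier := {w | w ∈ M ∧ w ^ p = 1 ∧ ∀ x ∈ M, ⁅x, w⁆ ∈ Z}
      one_mem' := hone
      mul_mem' := fun {a b} ha hb => hmul a b ha hb
      inv_mem' := fun {a} ha => ?_ }, fun w => Iff.rfl⟩
  have hpow : ∀ n : ℕ, a ^ n ∈ M ∧ (a ^ n) ^ p = 1 ∧ ∀ x ∈ M, ⁅x, a ^ n⁆ ∈ Z := by
    intro n
    induction n with
    | zero => rw [pow_zero]; exact hone
    | succ n ih => rw [pow_succ]; exact hmul _ _ ih ha
  obtain ⟨n, hn⟩ := (isOfFinOrder_of_finite a).mem_powers_iff_mem_zpowers.2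
    (inv_mem (mem_zpowers a))
  simp only at hn
  show a⁻¹ ∈ M ∧ _
  rw [← hn]
  exact hpow n

/-- An element of order `p` outside the central subgroup `Z` of a `p`-group gives one that is
moreover central modulo `Z`. -/
theorem exists_central_mod {P : Type u} [Group P] [Finite P] {p : ℕ} [Fact p.Prime] (hp : p ≠ 2)
    (hP : IsPGroup p P) (Z : Subgroup P) (hZc : Z ≤ center P) (hZp : ∀ z ∈ Z, z ^ p = 1)
    {e : P} (he : e ∉ Z) (hep : e ^ p = 1) :
    ∃ w : P, w ∉ Z ∧ w ^ p = 1 ∧ ∀ x : P, ⁅x, w⁆ ∈ Z := by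
  induction hn : Nat.card P using Nat.strong_induction_on generalizing P with
  | _ n ih =>
    subst hn
    rcases eq_top_or_exists_le_coatom (Z ⊔ zpowers e) with htop | ⟨M, hM, hle⟩
    · refine ⟨e, he, hep, fun x => ?_⟩
      have hx : x ∈ centralizer ({e} : Set P) := by
        refine (sup_le ?_ ?_ : Z ⊔ zpowers e ≤ _) (htop.symm ▸ mem_top x)
        · exact hZc.trans (center_le_centralizer _)
        · rw [zpowers_le, mem_centralizer_singleton_iff]
      rw [commutatorElement_eq_one_iff_mul_comm.2 (mem_centralizer_singleton_iff.1 hx)]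
      exact one_mem Z
    haveI := hP.isNilpotent
    haveI hMn : M.Normal :=
      Group.normalizerCondition_of_isNilpotent.normal_of_coatom M hM
    haveI : Z.Normal := ⟨fun z hz g => by
      rw [mem_center_iff.1 (hZc hz) g, mul_inv_cancel_right]; exact hz⟩
    have hZM : Z ≤ M := le_sup_left.trans hle
    have heM : e ∈ M := hle (mem_sup_right (mem_zpowers e))
    have hlt : Nat.card M < Nat.card P :=
      (Nat.le_of_dvd Nat.card_pos M.card_subgroup_dvd_card).lt_of_ne fun h =>
        hM.1 ((card_eq_iff_eq_top M).1 h)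
    obtain ⟨w, hw, hwp, hwc⟩ := ih (Nat.card M) hlt (hP.to_subgroup M) (Z.subgroupOf M)
      (fun z hz => mem_center_iff.2 fun m => Subtype.ext (mem_center_iff.1 (hZc hz) (m : P)))
      (fun z hz => Subtype.ext (by simpa using hZp _ hz))
      (e := ⟨e, heM⟩) he (Subtype.ext (by simpa using hep)) rfl
    have hcomm : ∀ z ∈ Z, ∀ x ∈ M, Commute z x := fun z hz x _ =>
      (mem_center_iff.1 (hZc hz) x).symm
    obtain ⟨S, hS⟩ := exists_omega_subgroup hp hcomm hZp
    haveI : S.Normal := ⟨fun s hs g => by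
      rw [hS] at hs ⊢
      refine ⟨hMn.conj_mem s hs.1 g, by rw [conj_pow, hs.2.1, mul_one, mul_inv_cancel],
        fun x hx => ?_⟩
      have hx' : g⁻¹ * x * g ∈ M := by simpa using hMn.conj_mem x hx g⁻¹
      have h := (inferInstance : Z.Normal).conj_mem _ (hs.2.2 _ hx') g
      have e : g * ⁅g⁻¹ * x * g, s⁆ * g⁻¹ = ⁅x, g * s * g⁻¹⁆ := by
        simp only [commutatorElement_def]; group
      rwa [e] at h⟩
    have hZS : Z < S := by
      refine lt_of_le_of_ne (fun z hz => (hS z).2 ⟨hZM hz, hZp z hz, fun x hx => ?_⟩) fun h => hw ?_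
      · rw [commutatorElement_eq_one_iff_mul_comm.2 (hcomm z hz x hx).eq.symm]; exact one_mem Z
      · rw [mem_subgroupOf, h, hS]
        exact ⟨w.2, by simpa using congrArg Subtype.val hwp, fun x hx => hwc ⟨x, hx⟩⟩
    obtain ⟨b, hbS, hbZ, hb⟩ := exists_fixed_section Z S hZS (hP.to_subgroup S)
      (R := ⊤) (hP.to_subgroup ⊤)
    exact ⟨b, hbZ, ((hS b).1 hbS).2.1, fun x => hb x (mem_top x)⟩

end CfsgLib.Coprime.QdRankTwo
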