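import Cfsg.Agent.Lib.Coprime.QdRankTwo.Tools
import Cfsg.Agent.Lib.Coprime.Action
import Cfsg.Agent.Lib.Qd.QdGroup
import Cfsg.Prelude.Def_LocalEven

/-!
# Extensions of `Qd(p)` by `p`-groups: the involution and lifts to its centralizer
-/

set_option autoImplicit false
set_option linter.style.haveILetI false

open Subgroup Matrix
open scoped commutatorElement
open CfsgLib.Qd

namespace CfsgLib.Coprime.QdRankTwo

universe u

variable {G : Type u} [Group G] {p : ℕ} [Fact p.Prime]

/-- A map of `G` onto `Qd(p)` with `p`-group kernel, with its linear part. -/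
structure Data (G : Type u) [Group G] (p : ℕ) [Fact p.Prime] where
  /-- The map. -/
  f : G →* Matrix.SpecialLinearGroup (Fin 3) (ZMod p)
  /-- Its linear part. -/
  l : G →* Matrix.SpecialLinearGroup (Fin 2) (ZMod p)
  /-- The values are affine. -/
  spec : ∀ g, ∃ w, f g = affine (l g) w
  /-- The map is onto. -/
  surj : ∀ A w, ∃ g, f g = affine A w
  /-- The kernel is a `p`-group. -/
  ker_p : IsPGroup p f.ker

theorem exists_data (f : G →* Matrix.SpecialLinearGroup (Fin 3) (ZMod p))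
    (hrange : f.range = Cfsg.qd p) (hker : IsPGroup p f.ker) :
    ∃ d : Data G p, d.f = f := by
  have hex : ∀ g, ∃ A w, f g = affine A w := fun g => (mem_qd_iff _).1 (hrange ▸ ⟨g, rfl⟩)
  choose lin tr htr using hex
  refine ⟨⟨f, MonoidHom.mk' lin fun x y =>
    (affine_inj (by rw [← htr, map_mul, htr, htr, affine_mul])).1,
    fun g => ⟨tr g, htr g⟩, fun A w => ?_, hker⟩, rfl⟩
  have h : affine A w ∈ f.range := hrange ▸ (mem_qd_iff _).2 ⟨A, w, rfl⟩
  exact h

namespace Data

variable (d : Data G p)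

theorem l_eq {g : G} {A : Matrix.SpecialLinearGroup (Fin 2) (ZMod p)} {w : Fin 2 → ZMod p}
    (h : d.f g = affine A w) : d.l g = A := by
  obtain ⟨w', hw'⟩ := d.spec g
  exact (affine_inj (hw'.symm.trans h)).1

theorem l_surjective : Function.Surjective d.l := fun A => by
  obtain ⟨g, hg⟩ := d.surj A 0
  exact ⟨g, d.l_eq hg⟩

theorem ker_f_le : d.f.ker ≤ d.l.ker := fun g hg => d.l_eq (w := 0) (by
  rw [MonoidHom.mem_ker.1 hg, affine_one])

theorem f_of_mem {g : G} (hg : g ∈ d.l.ker) : ∃ w, d.f g = affine 1 w := by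
  obtain ⟨w, hw⟩ := d.spec g
  exact ⟨w, by rw [hw, MonoidHom.mem_ker.1 hg]⟩

theorem affine_one_pow (w : Fin 2 → ZMod p) (n : ℕ) :
    (affine (1 : Matrix.SpecialLinearGroup (Fin 2) (ZMod p)) w) ^ n = affine 1 (n • w) := by
  induction n with
  | zero => rw [pow_zero, zero_smul, affine_one]
  | succ n ih =>
    rw [pow_succ, ih, affine_mul, mul_one, Matrix.SpecialLinearGroup.coe_one, Matrix.one_mulVec,
      succ_nsmul]

theorem pow_mem_ker {g : G} (hg : g ∈ d.l.ker) : g ^ p ∈ d.f.ker := by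
  obtain ⟨w, hw⟩ := d.f_of_mem hg
  rw [MonoidHom.mem_ker, map_pow, hw, affine_one_pow, ← Nat.cast_smul_eq_nsmul (ZMod p),
    ZMod.natCast_self, zero_smul, affine_one]

theorem isPGroup_lker : IsPGroup p d.l.ker := by
  intro x
  obtain ⟨k, hk⟩ := d.ker_p ⟨_, d.pow_mem_ker x.2⟩
  refine ⟨k + 1, Subtype.ext ?_⟩
  rw [pow_succ', pow_mul]
  simpa using congrArg Subtype.val hk

/-- The involution over `-1`. -/
theorem exists_invol (hp : p ≠ 2) : ∃ t : G, t * t = 1 ∧ d.f t = affine (-1) 0 := by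
  obtain ⟨g, hg⟩ := d.surj (-1) 0
  have hg2 : g * g ∈ d.f.ker := by
    rw [MonoidHom.mem_ker, map_mul, hg, affine_mul, neg_one_mul, neg_neg, Matrix.mulVec_zero,
      add_zero, affine_one]
  obtain ⟨k, hk⟩ := d.ker_p ⟨_, hg2⟩
  have hk' : (g * g) ^ p ^ k = 1 := by simpa using congrArg Subtype.val hk
  obtain ⟨m, hm⟩ := ((Fact.out : p.Prime).odd_of_ne_two hp).pow (n := k)
  refine ⟨g ^ p ^ k, by rw [← (Commute.refl g).mul_pow, hk'], ?_⟩
  rw [hm, pow_succ, pow_mul, map_mul, map_pow, map_pow, hg, pow_two, affine_mul, neg_one_mul,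
    neg_neg, Matrix.mulVec_zero, add_zero, affine_one, one_pow, one_mul]

variable {t : G} (ht : d.f t = affine (-1) 0)

include ht in
theorem l_t : d.l t = -1 := d.l_eq ht

include ht in
/-- The involution inverts the kernel of the linear part modulo the kernel. -/
theorem f_conj_t {x : G} (hx : x ∈ d.l.ker) : d.f (t * x * t⁻¹) = (d.f x)⁻¹ := by
  obtain ⟨w, hw⟩ := d.f_of_mem hx
  have h1 : d.f t * d.f x = (d.f x)⁻¹ * d.f t := by
    have hi : (affine (1 : Matrix.SpecialLinearGroup (Fin 2) (ZMod p)) w)⁻¹ = affine 1 (-w) := by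
      refine inv_eq_of_mul_eq_one_right ?_
      rw [affine_mul, one_mul, Matrix.SpecialLinearGroup.coe_one, Matrix.one_mulVec,
        add_neg_cancel, affine_one]
    rw [hw, hi, ht, affine_mul, affine_mul, mul_one, one_mul, Matrix.SpecialLinearGroup.coe_one,
      Matrix.one_mulVec, add_zero, zero_add, Matrix.SpecialLinearGroup.coe_neg,
      Matrix.SpecialLinearGroup.coe_one, Matrix.neg_mulVec, Matrix.one_mulVec]
  rw [map_mul, map_mul, map_inv, h1, mul_inv_cancel_right]

include ht in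
/-- The fixed points of the involution in the kernel of the linear part lie in the kernel. -/
theorem mem_ker_of_commute (hp : p ≠ 2) {x : G} (hx : x ∈ d.l.ker) (hc : Commute t x) :
    x ∈ d.f.ker := by
  have h := d.f_conj_t ht hx
  rw [hc.eq, mul_inv_cancel_right] at h
  obtain ⟨w, hw⟩ := d.f_of_mem hx
  have h2 : d.f x * d.f x = 1 := mul_eq_one_iff_eq_inv.2 h
  rw [hw, affine_mul, one_mul, Matrix.SpecialLinearGroup.coe_one, Matrix.one_mulVec, ← affine_one]
    at h2
  have hw0 : w = 0 := by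
    funext i
    have := congrFun (affine_inj h2).2 i
    simp only [Pi.add_apply, Pi.zero_apply, ← two_mul, mul_eq_zero] at this
    exact this.resolve_left (two_ne_zero' hp)
  rw [MonoidHom.mem_ker, hw, hw0, affine_one]

include ht in
/-- Every linear part is realized in the centralizer of the involution. -/
theorem exists_commute [Finite G] (hp : p ≠ 2) (ht2 : t * t = 1)
    (A : Matrix.SpecialLinearGroup (Fin 2) (ZMod p)) :
    ∃ k : G, Commute t k ∧ d.l k = A := by
  obtain ⟨g, hg⟩ := d.surj A 0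
  have hN : ∀ x : G, x ∈ normalizer (d.f.ker : Set G) := fun x => by
    rw [Subgroup.normalizer_eq_top d.f.ker]; exact mem_top x
  have hfix : ∀ a ∈ zpowers t, a * g * a⁻¹ * g⁻¹ ∈ d.f.ker := by
    intro a ha
    obtain ⟨n, rfl⟩ := mem_zpowers_iff.1 ha
    have hcom : Commute (d.f t) (d.f g) := by
      rw [Commute, SemiconjBy, ht, hg, affine_mul, affine_mul, neg_one_mul, mul_neg_one,
        Matrix.mulVec_zero, Matrix.mulVec_zero]
    rw [MonoidHom.mem_ker, map_mul, map_mul, map_mul, map_inv, map_inv, map_zpow,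
      (hcom.zpow_left n).eq, mul_inv_cancel_right, mul_inv_cancel]
  have hcop : (Nat.card (zpowers t)).Coprime (Nat.card d.f.ker) := by
    obtain ⟨k, hk⟩ := IsPGroup.iff_card.1 d.ker_p
    rw [hk, Nat.card_zpowers]
    exact Nat.Coprime.coprime_dvd_left (orderOf_dvd_of_pow_eq_one (by rw [pow_two, ht2]))
      (((Nat.coprime_primes Nat.prime_two Fact.out).2 (Ne.symm hp)).pow_right k)
  haveI := d.ker_p.isNilpotent
  obtain ⟨n, hn, hc⟩ := exists_fixed_in_coset (fun x _ => hN x) hcop (Or.inr inferInstance) (hN g)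
    hfix
  refine ⟨g * n, (mem_centralizer_iff.1 hc t (mem_zpowers t)), ?_⟩
  rw [map_mul, d.l_eq hg, MonoidHom.mem_ker.1 (d.ker_f_le hn), mul_one]

end Data

/-- A normal subgroup of `SL₂(p)` containing a nontrivial transvection is everything. -/
theorem eq_top_of_up_mem (N : Subgroup (Matrix.SpecialLinearGroup (Fin 2) (ZMod p))) [N.Normal]
    {k : ZMod p} (hk : k ≠ 0) (h : up k ∈ N) : N = ⊤ := by
  have h1 : up (1 : ZMod p) ∈ N := by
    have := pow_mem h (k⁻¹).val
    rwa [up_pow, ZMod.natCast_zmod_val, inv_mul_cancel₀ hk] at this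
  let w : Matrix.SpecialLinearGroup (Fin 2) (ZMod p) :=
    ⟨!![0, 1; -1, 0], by simp [Matrix.det_fin_two]⟩
  have hlo : w * up 1 * w⁻¹ = lo (-1 : ZMod p) := by
    obtain ⟨e0, e1, e2, e3⟩ := conj_up w (1 : ZMod p)
    apply ext2
    · rw [e0]; simp [w]
    · rw [e1]; simp [w]
    · rw [e2]; simp [w]
    · rw [e3]; simp [w]
  rw [eq_top_iff, ← closure_up_lo (neg_ne_zero.2 (one_ne_zero (α := ZMod p))), closure_le]
  rintro x (rfl | rfl)
  · exact h1
  · exact hlo ▸ (inferInstance : N.Normal).conj_mem _ h1 w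

/-- `SL₂(p)` is perfect for `p > 3`. -/
theorem commutator_sl_eq_top (hp : 3 < p) :
    _root_.commutator (Matrix.SpecialLinearGroup (Fin 2) (ZMod p)) = ⊤ := by
  have hne : ∀ n : ℕ, n ≠ 0 → n < p → (n : ZMod p) ≠ 0 := fun n h0 hn h =>
    h0 (Nat.eq_zero_of_dvd_of_lt ((ZMod.natCast_eq_zero_iff n p).1 h) hn)
  have h2 : (2 : ZMod p) ≠ 0 := by simpa using hne 2 two_ne_zero (by omega)
  have h3 : (3 : ZMod p) ≠ 0 := by simpa using hne 3 (by omega) hp
  let D : Matrix.SpecialLinearGroup (Fin 2) (ZMod p) :=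
    ⟨!![2, 0; 0, 2⁻¹], by simp [Matrix.det_fin_two, h2]⟩
  have hc : D * up (1 : ZMod p) * D⁻¹ = up 4 := by
    obtain ⟨e0, e1, e2, e3⟩ := conj_up D (1 : ZMod p)
    apply ext2
    · rw [e0]; simp [D]
    · rw [e1]; simp [D]; norm_num
    · rw [e2]; simp [D]
    · rw [e3]; simp [D]
  refine eq_top_of_up_mem _ h3 ?_
  have he : ⁅D, up (1 : ZMod p)⁆ = up 3 := by
    rw [commutatorElement_def, hc, up_inv, up_mul]
    norm_num
  rw [← he]
  exact commutator_mem_commutator (mem_top D) (mem_top _)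

/-- Lifts to the derived subgroup of the centralizer of the involution. -/
theorem Data.exists_commute_commutator [Finite G] (d : Data G p) (hp : 3 < p) {t : G}
    (ht : d.f t = affine (-1) 0) (ht2 : t * t = 1)
    (A : Matrix.SpecialLinearGroup (Fin 2) (ZMod p)) :
    ∃ k : G, Commute t k ∧ k ∈ _root_.commutator G ∧ d.l k = A := by
  set K := centralizer ({t} : Set G) with hK
  have hmap : K.map d.l = ⊤ := eq_top_iff.2 fun B _ => by
    obtain ⟨k, hk, hl⟩ := d.exists_commute ht (by omega) ht2 B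
    exact ⟨k, mem_centralizer_singleton_iff.2 hk.eq.symm, hl⟩
  have h : (⁅K, K⁆).map d.l = ⊤ := by
    rw [map_commutator, hmap, ← _root_.commutator_def, commutator_sl_eq_top hp]
  obtain ⟨k, hk, hl⟩ := (h.symm ▸ mem_top A : A ∈ (⁅K, K⁆).map d.l)
  refine ⟨k, ?_, commutator_mono le_top le_top hk, hl⟩
  have : k ∈ K := (commutator_le.2 fun a ha b hb => by
    rw [commutatorElement_def]
    exact mul_mem (mul_mem (mul_mem ha hb) (inv_mem ha)) (inv_mem hb)) hk
  exact (mem_centralizer_singleton_iff.1 this).symm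

end CfsgLib.Coprime.QdRankTwo
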